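/-
Checks of the orbit trees.
-/
import Cfsg.Agent.Lib.Spor.Fi23.ActF.Data
import Cfsg.Agent.Lib.Spor.TC.StrictLevels

namespace CfsgLib.Spor.Fi23.ActF

open CfsgLib.Spor.TC

set_option maxRecDepth 100000 in
theorem base0_rows_0 : RangeTest (act.rowOK base0) 0 4000 := RangeTest.of_check (by decide +kernel)

set_option maxRecDepth 100000 in
theorem base0_rows_4000 : RangeTest (act.rowOK base0) 4000 8000 := RangeTest.of_check (by decide +kernel)

set_option maxRecDepth 100000 in
theorem base0_rows_8000 : RangeTest (act.rowOK base0) 8000 12000 := RangeTest.of_check (by decide +kernel)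

set_option maxRecDepth 100000 in
theorem base0_rows_12000 : RangeTest (act.rowOK base0) 12000 16000 := RangeTest.of_check (by decide +kernel)

set_option maxRecDepth 100000 in
theorem base0_rows_16000 : RangeTest (act.rowOK base0) 16000 20000 := RangeTest.of_check (by decide +kernel)

set_option maxRecDepth 100000 in
theorem base0_rows_20000 : RangeTest (act.rowOK base0) 20000 24000 := RangeTest.of_check (by decide +kernel)

set_option maxRecDepth 100000 in
theorem base0_rows_24000 : RangeTest (act.rowOK base0) 24000 28000 := RangeTest.of_check (by decide +kernel)

set_option maxRecDepth 100000 in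
theorem base0_rows_28000 : RangeTest (act.rowOK base0) 28000 31671 := RangeTest.of_check (by decide +kernel)

theorem base0_rows : RangeTest (act.rowOK base0) 0 31671 := (((base0_rows_0.append base0_rows_4000).append (base0_rows_8000.append base0_rows_12000)).append ((base0_rows_16000.append base0_rows_20000).append (base0_rows_24000.append base0_rows_28000)))

theorem base0_ok : act.levelOK base0 [] = true :=
  act.levelOK_of_range (by decide +kernel) rfl base0_rows

set_option maxRecDepth 100000 in
theorem base1_rows_0 : RangeTest (act.rowOK base1) 0 4000 := RangeTest.of_check (by decide +kernel)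

set_option maxRecDepth 100000 in
theorem base1_rows_4000 : RangeTest (act.rowOK base1) 4000 8000 := RangeTest.of_check (by decide +kernel)

set_option maxRecDepth 100000 in
theorem base1_rows_8000 : RangeTest (act.rowOK base1) 8000 12000 := RangeTest.of_check (by decide +kernel)

set_option maxRecDepth 100000 in
theorem base1_rows_12000 : RangeTest (act.rowOK base1) 12000 16000 := RangeTest.of_check (by decide +kernel)

set_option maxRecDepth 100000 in
theorem base1_rows_16000 : RangeTest (act.rowOK base1) 16000 20000 := RangeTest.of_check (by decide +kernel)

set_option maxRecDepth 100000 in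
theorem base1_rows_20000 : RangeTest (act.rowOK base1) 20000 24000 := RangeTest.of_check (by decide +kernel)

set_option maxRecDepth 100000 in
theorem base1_rows_24000 : RangeTest (act.rowOK base1) 24000 28000 := RangeTest.of_check (by decide +kernel)

set_option maxRecDepth 100000 in
theorem base1_rows_28000 : RangeTest (act.rowOK base1) 28000 28160 := RangeTest.of_check (by decide +kernel)

theorem base1_rows : RangeTest (act.rowOK base1) 0 28160 := (((base1_rows_0.append base1_rows_4000).append (base1_rows_8000.append base1_rows_12000)).append ((base1_rows_16000.append base1_rows_20000).append (base1_rows_24000.append base1_rows_28000)))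

theorem base1_ok : act.levelOK base1 [0] = true :=
  act.levelOK_of_range (by decide +kernel) rfl base1_rows

set_option maxRecDepth 100000 in
theorem base2_rows_0 : RangeTest (act.rowOK base2) 0 3159 := RangeTest.of_check (by decide +kernel)

theorem base2_rows : RangeTest (act.rowOK base2) 0 3159 := base2_rows_0

theorem base2_ok : act.levelOK base2 [1, 0] = true :=
  act.levelOK_of_range (by decide +kernel) rfl base2_rows

set_option maxRecDepth 100000 in
theorem base3_rows_0 : RangeTest (act.rowOK base3) 0 288 := RangeTest.of_check (by decide +kernel)

theorem base3_rows : RangeTest (act.rowOK base3) 0 288 := base3_rows_0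

theorem base3_ok : act.levelOK base3 [2, 1, 0] = true :=
  act.levelOK_of_range (by decide +kernel) rfl base3_rows

set_option maxRecDepth 100000 in
theorem base4_rows_0 : RangeTest (act.rowOK base4) 0 35 := RangeTest.of_check (by decide +kernel)

theorem base4_rows : RangeTest (act.rowOK base4) 0 35 := base4_rows_0

theorem base4_ok : act.levelOK base4 [3, 2, 1, 0] = true :=
  act.levelOK_of_range (by decide +kernel) rfl base4_rows

set_option maxRecDepth 100000 in
theorem base5_rows_0 : RangeTest (act.rowOK base5) 0 12 := RangeTest.of_check (by decide +kernel)

theorem base5_rows : RangeTest (act.rowOK base5) 0 12 := base5_rows_0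

theorem base5_ok : act.levelOK base5 [4, 3, 2, 1, 0] = true :=
  act.levelOK_of_range (by decide +kernel) rfl base5_rows

set_option maxRecDepth 100000 in
theorem base6_rows_0 : RangeTest (act.rowOK base6) 0 3 := RangeTest.of_check (by decide +kernel)

theorem base6_rows : RangeTest (act.rowOK base6) 0 3 := base6_rows_0

theorem base6_ok : act.levelOK base6 [5, 4, 3, 2, 1, 0] = true :=
  act.levelOK_of_range (by decide +kernel) rfl base6_rows

set_option maxRecDepth 100000 in
theorem base7_rows_0 : RangeTest (act.rowOK base7) 0 2 := RangeTest.of_check (by decide +kernel)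

theorem base7_rows : RangeTest (act.rowOK base7) 0 2 := base7_rows_0

theorem base7_ok : act.levelOK base7 [6, 5, 4, 3, 2, 1, 0] = true :=
  act.levelOK_of_range (by decide +kernel) rfl base7_rows

set_option maxRecDepth 100000 in
theorem base8_rows_0 : RangeTest (act.rowOK base8) 0 2 := RangeTest.of_check (by decide +kernel)

theorem base8_rows : RangeTest (act.rowOK base8) 0 2 := base8_rows_0

theorem base8_ok : act.levelOK base8 [7, 6, 5, 4, 3, 2, 1, 0] = true :=
  act.levelOK_of_range (by decide +kernel) rfl base8_rows

noncomputable def bases : List Level := [base0, base1, base2, base3, base4, base5, base6, base7, base8]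

theorem bases_ok : act.levelsOK bases [] = true := by
  show (act.levelOK base0 [] && (act.levelOK base1 [0] && (act.levelOK base2 [1, 0] && (act.levelOK base3 [2, 1, 0] && (act.levelOK base4 [3, 2, 1, 0] && (act.levelOK base5 [4, 3, 2, 1, 0] && (act.levelOK base6 [5, 4, 3, 2, 1, 0] && (act.levelOK base7 [6, 5, 4, 3, 2, 1, 0] && (act.levelOK base8 [7, 6, 5, 4, 3, 2, 1, 0] && true))))))))) = true
  simp only [base0_ok, base1_ok, base2_ok, base3_ok, base4_ok, base5_ok, base6_ok, base7_ok, base8_ok, Bool.and_self]

end CfsgLib.Spor.Fi23.ActF
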