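/-
Checks of the orbit trees.
-/
import Cfsg.Agent.Lib.Spor.Fi23.ActF.Data
import Cfsg.Agent.Lib.Spor.TC.StrictLevels

namespace CfsgLib.Spor.Fi23.ActF

open CfsgLib.Spor.TC

set_option maxRecDepth 100000 in
theorem part0_rows_0 : RangeTest (act.rowOK part0) 0 1 := RangeTest.of_check (by decide +kernel)

theorem part0_rows : RangeTest (act.rowOK part0) 0 1 := part0_rows_0

set_option maxRecDepth 100000 in
theorem part0_closed_0 : RangeTest (act.closedAt part0) 0 1 := RangeTest.of_check (by decide +kernel)

theorem part0_closed : RangeTest (act.closedAt part0) 0 1 := part0_closed_0

theorem part0_ok : act.orbitOK part0 = true :=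
  act.orbitOK_of_range (act.levelOK_of_range (by decide +kernel) rfl part0_rows) rfl part0_closed

set_option maxRecDepth 100000 in
theorem part1_rows_0 : RangeTest (act.rowOK part1) 0 4000 := RangeTest.of_check (by decide +kernel)

set_option maxRecDepth 100000 in
theorem part1_rows_4000 : RangeTest (act.rowOK part1) 4000 8000 := RangeTest.of_check (by decide +kernel)

set_option maxRecDepth 100000 in
theorem part1_rows_8000 : RangeTest (act.rowOK part1) 8000 12000 := RangeTest.of_check (by decide +kernel)

set_option maxRecDepth 100000 in
theorem part1_rows_12000 : RangeTest (act.rowOK part1) 12000 16000 := RangeTest.of_check (by decide +kernel)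

set_option maxRecDepth 100000 in
theorem part1_rows_16000 : RangeTest (act.rowOK part1) 16000 20000 := RangeTest.of_check (by decide +kernel)

set_option maxRecDepth 100000 in
theorem part1_rows_20000 : RangeTest (act.rowOK part1) 20000 24000 := RangeTest.of_check (by decide +kernel)

set_option maxRecDepth 100000 in
theorem part1_rows_24000 : RangeTest (act.rowOK part1) 24000 28000 := RangeTest.of_check (by decide +kernel)

set_option maxRecDepth 100000 in
theorem part1_rows_28000 : RangeTest (act.rowOK part1) 28000 28160 := RangeTest.of_check (by decide +kernel)

theorem part1_rows : RangeTest (act.rowOK part1) 0 28160 := (((part1_rows_0.append part1_rows_4000).append (part1_rows_8000.append part1_rows_12000)).append ((part1_rows_16000.append part1_rows_20000).append (part1_rows_24000.append part1_rows_28000)))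

set_option maxRecDepth 100000 in
theorem part1_closed_0 : RangeTest (act.closedAt part1) 0 4000 := RangeTest.of_check (by decide +kernel)

set_option maxRecDepth 100000 in
theorem part1_closed_4000 : RangeTest (act.closedAt part1) 4000 8000 := RangeTest.of_check (by decide +kernel)

set_option maxRecDepth 100000 in
theorem part1_closed_8000 : RangeTest (act.closedAt part1) 8000 12000 := RangeTest.of_check (by decide +kernel)

set_option maxRecDepth 100000 in
theorem part1_closed_12000 : RangeTest (act.closedAt part1) 12000 16000 := RangeTest.of_check (by decide +kernel)

set_option maxRecDepth 100000 in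
theorem part1_closed_16000 : RangeTest (act.closedAt part1) 16000 20000 := RangeTest.of_check (by decide +kernel)

set_option maxRecDepth 100000 in
theorem part1_closed_20000 : RangeTest (act.closedAt part1) 20000 24000 := RangeTest.of_check (by decide +kernel)

set_option maxRecDepth 100000 in
theorem part1_closed_24000 : RangeTest (act.closedAt part1) 24000 28000 := RangeTest.of_check (by decide +kernel)

set_option maxRecDepth 100000 in
theorem part1_closed_28000 : RangeTest (act.closedAt part1) 28000 28160 := RangeTest.of_check (by decide +kernel)

theorem part1_closed : RangeTest (act.closedAt part1) 0 28160 := (((part1_closed_0.append part1_closed_4000).append (part1_closed_8000.append part1_closed_12000)).append ((part1_closed_16000.append part1_closed_20000).append (part1_closed_24000.append part1_closed_28000)))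

theorem part1_ok : act.orbitOK part1 = true :=
  act.orbitOK_of_range (act.levelOK_of_range (by decide +kernel) rfl part1_rows) rfl part1_closed

set_option maxRecDepth 100000 in
theorem part2_rows_0 : RangeTest (act.rowOK part2) 0 3510 := RangeTest.of_check (by decide +kernel)

theorem part2_rows : RangeTest (act.rowOK part2) 0 3510 := part2_rows_0

set_option maxRecDepth 100000 in
theorem part2_closed_0 : RangeTest (act.closedAt part2) 0 3510 := RangeTest.of_check (by decide +kernel)

theorem part2_closed : RangeTest (act.closedAt part2) 0 3510 := part2_closed_0

theorem part2_ok : act.orbitOK part2 = true :=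
  act.orbitOK_of_range (act.levelOK_of_range (by decide +kernel) rfl part2_rows) rfl part2_closed

noncomputable def parts : List Level := [part0, part1, part2]

set_option maxRecDepth 100000 in
theorem parts_cover_rows_0 : RangeTest (coveredBy parts) 0 4000 := RangeTest.of_check (by decide +kernel)

set_option maxRecDepth 100000 in
theorem parts_cover_rows_4000 : RangeTest (coveredBy parts) 4000 8000 := RangeTest.of_check (by decide +kernel)

set_option maxRecDepth 100000 in
theorem parts_cover_rows_8000 : RangeTest (coveredBy parts) 8000 12000 := RangeTest.of_check (by decide +kernel)

set_option maxRecDepth 100000 in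
theorem parts_cover_rows_12000 : RangeTest (coveredBy parts) 12000 16000 := RangeTest.of_check (by decide +kernel)

set_option maxRecDepth 100000 in
theorem parts_cover_rows_16000 : RangeTest (coveredBy parts) 16000 20000 := RangeTest.of_check (by decide +kernel)

set_option maxRecDepth 100000 in
theorem parts_cover_rows_20000 : RangeTest (coveredBy parts) 20000 24000 := RangeTest.of_check (by decide +kernel)

set_option maxRecDepth 100000 in
theorem parts_cover_rows_24000 : RangeTest (coveredBy parts) 24000 28000 := RangeTest.of_check (by decide +kernel)

set_option maxRecDepth 100000 in
theorem parts_cover_rows_28000 : RangeTest (coveredBy parts) 28000 31671 := RangeTest.of_check (by decide +kernel)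

theorem parts_cover_rows : RangeTest (coveredBy parts) 0 31671 := (((parts_cover_rows_0.append parts_cover_rows_4000).append (parts_cover_rows_8000.append parts_cover_rows_12000)).append ((parts_cover_rows_16000.append parts_cover_rows_20000).append (parts_cover_rows_24000.append parts_cover_rows_28000)))

theorem parts_ok : act.orbitsOK parts [0, 1, 2, 3, 4, 5, 6, 8, 9] = true := by
  refine act.orbitsOK_of_range (by decide +kernel) (fun L hL => ?_) rfl parts_cover_rows (by decide +kernel)
  simp only [parts, List.mem_cons, List.not_mem_nil, or_false] at hL
  rcases hL with rfl | rfl | rfl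
  · exact ⟨by decide +kernel, part0_ok⟩
  · exact ⟨by decide +kernel, part1_ok⟩
  · exact ⟨by decide +kernel, part2_ok⟩

end CfsgLib.Spor.Fi23.ActF
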