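/-
Checks of the orbit trees.
-/
import Cfsg.Agent.Lib.Spor.Fi23.ActF.Data
import Cfsg.Agent.Lib.Spor.TC.StrictLevels

namespace CfsgLib.Spor.Fi23.ActF

open CfsgLib.Spor.TC

set_option maxRecDepth 100000 in
theorem top_rows_0 : RangeTest (act.rowOK top) 0 4000 := RangeTest.of_check (by decide +kernel)

set_option maxRecDepth 100000 in
theorem top_rows_4000 : RangeTest (act.rowOK top) 4000 8000 := RangeTest.of_check (by decide +kernel)

set_option maxRecDepth 100000 in
theorem top_rows_8000 : RangeTest (act.rowOK top) 8000 12000 := RangeTest.of_check (by decide +kernel)

set_option maxRecDepth 100000 in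
theorem top_rows_12000 : RangeTest (act.rowOK top) 12000 16000 := RangeTest.of_check (by decide +kernel)

set_option maxRecDepth 100000 in
theorem top_rows_16000 : RangeTest (act.rowOK top) 16000 20000 := RangeTest.of_check (by decide +kernel)

set_option maxRecDepth 100000 in
theorem top_rows_20000 : RangeTest (act.rowOK top) 20000 24000 := RangeTest.of_check (by decide +kernel)

set_option maxRecDepth 100000 in
theorem top_rows_24000 : RangeTest (act.rowOK top) 24000 28000 := RangeTest.of_check (by decide +kernel)

set_option maxRecDepth 100000 in
theorem top_rows_28000 : RangeTest (act.rowOK top) 28000 31671 := RangeTest.of_check (by decide +kernel)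

theorem top_rows : RangeTest (act.rowOK top) 0 31671 := (((top_rows_0.append top_rows_4000).append (top_rows_8000.append top_rows_12000)).append ((top_rows_16000.append top_rows_20000).append (top_rows_24000.append top_rows_28000)))

theorem top_ok : act.levelOK top [] = true :=
  act.levelOK_of_range (by decide +kernel) rfl top_rows

end CfsgLib.Spor.Fi23.ActF
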