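/-
Checks of the orbit trees.
-/
import Cfsg.Agent.Lib.Spor.Fi23.ActF.OrbitsTop
import Cfsg.Agent.Lib.Spor.Fi23.ActF.OrbitsParts
import Cfsg.Agent.Lib.Spor.Fi23.ActF.OrbitsBases
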