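/-
Checks of the relators at a range of points.
-/
import Cfsg.Agent.Lib.Spor.Fi23.ActF.Data
import Cfsg.Agent.Lib.Spor.Fi23.Rels
import Cfsg.Agent.Lib.Spor.TC.Strict

namespace CfsgLib.Spor.Fi23.ActF

open CfsgLib.Spor.TC

set_option maxRecDepth 100000 in
theorem range924 : act.RangeOK relsG 924 1078 :=
  Act.RangeOK.of_checkS _ (by decide +kernel)

set_option maxRecDepth 100000 in
theorem range1078 : act.RangeOK relsG 1078 1232 :=
  Act.RangeOK.of_checkS _ (by decide +kernel)

set_option maxRecDepth 100000 in
theorem range1232 : act.RangeOK relsG 1232 1386 :=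
  Act.RangeOK.of_checkS _ (by decide +kernel)

set_option maxRecDepth 100000 in
theorem range1386 : act.RangeOK relsG 1386 1540 :=
  Act.RangeOK.of_checkS _ (by decide +kernel)

set_option maxRecDepth 100000 in
theorem range1540 : act.RangeOK relsG 1540 1694 :=
  Act.RangeOK.of_checkS _ (by decide +kernel)

set_option maxRecDepth 100000 in
theorem range1694 : act.RangeOK relsG 1694 1848 :=
  Act.RangeOK.of_checkS _ (by decide +kernel)

end CfsgLib.Spor.Fi23.ActF
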