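/-
Checks of the relators at a range of points.
-/
import Cfsg.Agent.Lib.Spor.Fi23.ActF.Data
import Cfsg.Agent.Lib.Spor.Fi23.Rels
import Cfsg.Agent.Lib.Spor.TC.Strict

namespace CfsgLib.Spor.Fi23.ActF

open CfsgLib.Spor.TC

set_option maxRecDepth 100000 in
theorem range11088 : act.RangeOK relsG 11088 11242 :=
  Act.RangeOK.of_checkS _ (by decide +kernel)

set_option maxRecDepth 100000 in
theorem range11242 : act.RangeOK relsG 11242 11396 :=
  Act.RangeOK.of_checkS _ (by decide +kernel)

set_option maxRecDepth 100000 in
theorem range11396 : act.RangeOK relsG 11396 11550 :=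
  Act.RangeOK.of_checkS _ (by decide +kernel)

set_option maxRecDepth 100000 in
theorem range11550 : act.RangeOK relsG 11550 11704 :=
  Act.RangeOK.of_checkS _ (by decide +kernel)

set_option maxRecDepth 100000 in
theorem range11704 : act.RangeOK relsG 11704 11858 :=
  Act.RangeOK.of_checkS _ (by decide +kernel)

set_option maxRecDepth 100000 in
theorem range11858 : act.RangeOK relsG 11858 12012 :=
  Act.RangeOK.of_checkS _ (by decide +kernel)

end CfsgLib.Spor.Fi23.ActF
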