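/-
The action with its checks.
-/
import Cfsg.Agent.Lib.Spor.Fi23.ActF.Orbits
import Cfsg.Agent.Lib.Spor.Fi23.CG.All
import Cfsg.Agent.Lib.Spor.Fi23.ActF.Range0
import Cfsg.Agent.Lib.Spor.Fi23.ActF.Range1
import Cfsg.Agent.Lib.Spor.Fi23.ActF.Range2
import Cfsg.Agent.Lib.Spor.Fi23.ActF.Range3
import Cfsg.Agent.Lib.Spor.Fi23.ActF.Range4
import Cfsg.Agent.Lib.Spor.Fi23.ActF.Range5
import Cfsg.Agent.Lib.Spor.Fi23.ActF.Range6
import Cfsg.Agent.Lib.Spor.Fi23.ActF.Range7
import Cfsg.Agent.Lib.Spor.Fi23.ActF.Range8
import Cfsg.Agent.Lib.Spor.Fi23.ActF.Range9
import Cfsg.Agent.Lib.Spor.Fi23.ActF.Range10
import Cfsg.Agent.Lib.Spor.Fi23.ActF.Range11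
import Cfsg.Agent.Lib.Spor.Fi23.ActF.Range12
import Cfsg.Agent.Lib.Spor.Fi23.ActF.Range13
import Cfsg.Agent.Lib.Spor.Fi23.ActF.Range14
import Cfsg.Agent.Lib.Spor.Fi23.ActF.Range15
import Cfsg.Agent.Lib.Spor.Fi23.ActF.Range16
import Cfsg.Agent.Lib.Spor.Fi23.ActF.Range17
import Cfsg.Agent.Lib.Spor.Fi23.ActF.Range18
import Cfsg.Agent.Lib.Spor.Fi23.ActF.Range19
import Cfsg.Agent.Lib.Spor.Fi23.ActF.Range20
import Cfsg.Agent.Lib.Spor.Fi23.ActF.Range21
import Cfsg.Agent.Lib.Spor.Fi23.ActF.Range22
import Cfsg.Agent.Lib.Spor.Fi23.ActF.Range23
import Cfsg.Agent.Lib.Spor.Fi23.ActF.Range24
import Cfsg.Agent.Lib.Spor.Fi23.ActF.Range25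
import Cfsg.Agent.Lib.Spor.Fi23.ActF.Range26
import Cfsg.Agent.Lib.Spor.Fi23.ActF.Range27
import Cfsg.Agent.Lib.Spor.Fi23.ActF.Range28
import Cfsg.Agent.Lib.Spor.Fi23.ActF.Range29
import Cfsg.Agent.Lib.Spor.Fi23.ActF.Range30
import Cfsg.Agent.Lib.Spor.Fi23.ActF.Range31
import Cfsg.Agent.Lib.Spor.Fi23.ActF.Range32
import Cfsg.Agent.Lib.Spor.Fi23.ActF.Range33
import Cfsg.Agent.Lib.Spor.Fi23.ActF.Range34

namespace CfsgLib.Spor.Fi23.ActF

open CfsgLib.Spor.TC

theorem valid : act.Valid relsG :=
  ⟨(((((((range0.append _ (range154.append _ range308)).append _ (range462.append _ (range616.append _ range770))).append _ ((range924.append _ (range1078.append _ range1232)).append _ (range1386.append _ (range1540.append _ range1694)))).append _ (((range1848.append _ (range2002.append _ range2156)).append _ (range2310.append _ (range2464.append _ range2618))).append _ ((range2772.append _ (range2926.append _ range3080)).append _ ((range3234.append _ range3388).append _ (range3542.append _ range3696))))).append _ ((((range3850.append _ (range4004.append _ range4158)).append _ (range4312.append _ (range4466.append _ range4620))).append _ ((range4774.append _ (range4928.append _ range5082)).append _ ((range5236.append _ range5390).append _ (range5544.append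 _ range5698)))).append _ (((range5852.append _ (range6006.append _ range6160)).append _ (range6314.append _ (range6468.append _ range6622))).append _ ((range6776.append _ (range6930.append _ range7084)).append _ ((range7238.append _ range7392).append _ (range7546.append _ range7700)))))).append _ (((((range7854.append _ (range8008.append _ range8162)).append _ (range8316.append _ (range8470.append _ range8624))).append _ ((range8778.append _ (range8932.append _ range9086)).append _ ((range9240.append _ range9394).append _ (range9548.append _ range9702)))).append _ (((range9856.append _ (range10010.append _ range10164)).append _ (range10318.append _ (range10472.append _ range10626))).append _ ((range10780.append _ (range10934.append _ range11088)).append _ ((range11242.append _ range11396).append _ (range11550.append _ range11704))))).append _ ((((range11858.append _ (range12012.append _ range12166)).append _ (range12320.append _ (range12474.append _ range12628))).append _ ((range12782.append _ (range12936.append _ range13090)).append _ ((range13244.append _ range13398).append _ (range13552.append _ range13706)))).append _ (((range13860.append _ (range14014.append _ range14168)).append _ (range14322.append _ (range14476.append _ range14630))).append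 _ ((range14784.append _ (range14938.append _ range15092)).append _ ((range15246.append _ range15400).append _ (range15554.append _ range15708))))))).append _ ((((((range15862.append _ (range16016.append _ range16170)).append _ (range16324.append _ (range16478.append _ range16632))).append _ ((range16786.append _ (range16940.append _ range17094)).append _ (range17248.append _ (range17402.append _ range17556)))).append _ (((range17710.append _ (range17864.append _ range18018)).append _ (range18172.append _ (range18326.append _ range18480))).append _ ((range18634.append _ (range18788.append _ range18942)).append _ ((range19096.append _ range19250).append _ (range19404.append _ range19558))))).append _ ((((range19712.append _ (range19866.append _ range20020)).append _ (range20174.append _ (range20328.append _ range20482))).append _ ((range20636.append _ (range20790.append _ range20944)).append _ ((range21098.append _ range21252).append _ (range21406.append _ range21560)))).append _ (((range21714.append _ (range21868.append _ range22022)).append _ (range22176.append _ (range22330.append _ range22484))).append _ ((range22638.append _ (range22792.append _ range22946)).append _ ((range23100.append _ range23254).append _ (range23408.append _ range23562)))))).append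 _ (((((range23716.append _ (range23870.append _ range24024)).append _ (range24178.append _ (range24332.append _ range24486))).append _ ((range24640.append _ (range24794.append _ range24948)).append _ ((range25102.append _ range25256).append _ (range25410.append _ range25564)))).append _ (((range25718.append _ (range25872.append _ range26026)).append _ (range26180.append _ (range26334.append _ range26488))).append _ ((range26642.append _ (range26796.append _ range26950)).append _ ((range27104.append _ range27258).append _ (range27412.append _ range27566))))).append _ ((((range27720.append _ (range27874.append _ range28028)).append _ (range28182.append _ (range28336.append _ range28490))).append _ ((range28644.append _ (range28798.append _ range28952)).append _ ((range29106.append _ range29260).append _ (range29414.append _ range29568)))).append _ (((range29722.append _ (range29876.append _ range30030)).append _ (range30184.append _ (range30338.append _ range30492))).append _ ((range30646.append _ (range30800.append _ range30954)).append _ ((range31108.append _ range31262).append _ (range31416.append _ range31570)))))))), by decide +kernel, by decide +kernel⟩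

end CfsgLib.Spor.Fi23.ActF
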