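/-
Checks of the relators at a range of points.
-/
import Cfsg.Agent.Lib.Spor.Fi23.ActF.Data
import Cfsg.Agent.Lib.Spor.Fi23.Rels
import Cfsg.Agent.Lib.Spor.TC.Strict

namespace CfsgLib.Spor.Fi23.ActF

open CfsgLib.Spor.TC

set_option maxRecDepth 100000 in
theorem range10164 : act.RangeOK relsG 10164 10318 :=
  Act.RangeOK.of_checkS _ (by decide +kernel)

set_option maxRecDepth 100000 in
theorem range10318 : act.RangeOK relsG 10318 10472 :=
  Act.RangeOK.of_checkS _ (by decide +kernel)

set_option maxRecDepth 100000 in
theorem range10472 : act.RangeOK relsG 10472 10626 :=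
  Act.RangeOK.of_checkS _ (by decide +kernel)

set_option maxRecDepth 100000 in
theorem range10626 : act.RangeOK relsG 10626 10780 :=
  Act.RangeOK.of_checkS _ (by decide +kernel)

set_option maxRecDepth 100000 in
theorem range10780 : act.RangeOK relsG 10780 10934 :=
  Act.RangeOK.of_checkS _ (by decide +kernel)

set_option maxRecDepth 100000 in
theorem range10934 : act.RangeOK relsG 10934 11088 :=
  Act.RangeOK.of_checkS _ (by decide +kernel)

end CfsgLib.Spor.Fi23.ActF
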